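import Groth.Agent.Mero.Basic
import Groth.Agent.WeakAssSch.Unit
import Mathlib.RingTheory.Ideal.AssociatedPrime.Finiteness

/-!
# Meromorphic functions on an affine open with finitely many weakly associated points
-/

set_option linter.style.haveILetI false

universe u

open CategoryTheory AlgebraicGeometry TopologicalSpace

namespace Groth.Agent.MeroTotal

open _root_.Mero

variable {X : Scheme.{u}}

theorem isUnit_germ_of_nzd {U : X.Opens} (hU : IsAffineOpen U) {a : Γ(X, U)}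
    (ha : a ∈ nonZeroDivisors Γ(X, U)) (z : X) (hz : z ∈ U)
    (hw : Curv2.IsWeakAssPoint (Coh.structureModule X) z) : IsUnit (X.presheaf.germ U z hz a) :=
  WeakAssSch.isUnit_of_isAssociatedPrime
    ((WeakAssSch.isWeakAssPoint_unit_iff_isAssociatedPrime z).mp hw)
    (IdealSh.Regular.germ_mem_nonZeroDivisors hU z hz ha)

theorem mem_nonZeroDivisors_of_isUnit {U : X.Opens} {a : Γ(X, U)}
    (h : ∀ (z : X) (hz : z ∈ U), Curv2.IsWeakAssPoint (Coh.structureModule X) z →
      IsUnit (X.presheaf.germ U z hz a)) : a ∈ nonZeroDivisors Γ(X, U) :=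
  IdealSh.Regular.mem_nonZeroDivisors_of_germ fun y hy =>
    WeakAssSch.germ_mem_nonZeroDivisors_of_isUnit a h y hy

theorem mem_regSub {U : X.Opens} (hU : IsAffineOpen U) {a : Γ(X, U)}
    (ha : a ∈ nonZeroDivisors Γ(X, U)) : a ∈ regSub X U :=
  fun x => IdealSh.Regular.germ_mem_nonZeroDivisors hU x.1 x.2 ha

theorem toK_injective {U : X.Opens} : Function.Injective (toK X U) := by
  intro a b h
  refine TopCat.Presheaf.section_ext X.sheaf _ _ _ fun y hy => ?_
  have e := congrFun (congrArg Subtype.val h) ⟨y, hy⟩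
  rw [toK_apply, toK_apply, Groth.Agent.Mero.mk_eq_mk_iff, OneMemClass.coe_one, one_mul,
    one_mul] at e
  exact e

theorem isUnit_toK {U : X.Opens} (hU : IsAffineOpen U) {a : Γ(X, U)}
    (ha : a ∈ nonZeroDivisors Γ(X, U)) : IsUnit (toK X U a) := by
  refine IsUnit.of_mul_eq_one (⟨fun y => LocalizedModule.mk 1 (regGerm y ⟨a, mem_regSub hU ha⟩),
    fun x => ⟨U, x.2, 𝟙 _, 1, ⟨a, mem_regSub hU ha⟩, fun y => mk_congr (map_one _).symm rfl⟩⟩ :
      Γ(kmod X, U)) (Subtype.ext (funext fun y => ?_))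
  change LocalizedModule.mk (X.presheaf.germ U y.1 y.2 a) 1 *
    LocalizedModule.mk 1 (regGerm y ⟨a, mem_regSub hU ha⟩) = (1 : KStalk X y.1)
  refine LocalizedModule.mk_mul_mk.trans ?_
  exact (mk_congr (mul_one _) (one_mul _)).trans (mk_self_eq_one (regGerm y ⟨a, mem_regSub hU ha⟩))

/-- A meromorphic function regular on an open is a function there. -/
theorem exists_section_of_defDomain {U : X.Opens} (f : Γ(kmod X, U)) (W : X.Opens) (hWU : W ≤ U)
    (hW : ∀ y ∈ W, y ∈ Groth.Agent.Mero.defDomain f) :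
    ∃ c : Γ(X, W), ∀ (y : X) (hy : y ∈ W),
      f.1 ⟨y, hWU hy⟩ = LocalizedModule.mk (X.presheaf.germ W y hy c) 1 := by
  have h : ∀ y : W, ∃ (N : X.Opens) (_ : y.1 ∈ N) (hNW : N ≤ W) (c : Γ(X, N)),
      ∀ (z : X) (hz : z ∈ N), f.1 ⟨z, hWU (hNW hz)⟩ = LocalizedModule.mk (X.presheaf.germ N z hz c) 1 := by
    intro y
    obtain ⟨hyU, r, hr⟩ := hW y.1 y.2
    obtain ⟨V, hxV, hV, a, b, w⟩ := Groth.Agent.Mero.exists_fraction f y.1 hyU
    obtain ⟨W', hxW', r, rfl⟩ := X.presheaf.exists_germ_eq (x := y.1) r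
    rw [Groth.Agent.Mero.algebraMap_eq_mk] at hr
    have hr' := (w ⟨y.1, hxV⟩).symm.trans hr.symm
    rw [Groth.Agent.Mero.mk_eq_mk_iff, OneMemClass.coe_one, one_mul] at hr'
    have hI : y.1 ∈ V.1 ⊓ W' := ⟨hxV, hxW'⟩
    have h2 : X.presheaf.germ (V.1 ⊓ W') y.1 hI (X.presheaf.map (homOfLE inf_le_left).op a) =
        X.presheaf.germ (V.1 ⊓ W') y.1 hI (X.presheaf.map (homOfLE inf_le_left).op b.1 *
          X.presheaf.map (homOfLE inf_le_right).op r) := by
      rw [map_mul, TopCat.Presheaf.germ_res_apply, TopCat.Presheaf.germ_res_apply,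
        TopCat.Presheaf.germ_res_apply]
      exact hr'
    obtain ⟨N, hxN, i, j, e⟩ := TopCat.Presheaf.germ_eq _ y.1 hI hI _ _ h2
    refine ⟨N ⊓ W, ⟨hxN, y.2⟩, inf_le_right,
      X.presheaf.map (homOfLE ((inf_le_left.trans i.le).trans inf_le_right : N ⊓ W ≤ W')).op r,
      fun z hz => ?_⟩
    rw [TopCat.Presheaf.germ_res_apply]
    refine (w ⟨z, (i.le hz.1).1⟩).trans ?_
    rw [Groth.Agent.Mero.mk_eq_mk_iff, OneMemClass.coe_one, one_mul]
    have e2 := congrArg (X.presheaf.germ N z hz.1) e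
    simp only [TopCat.Presheaf.germ_res_apply, map_mul] at e2
    exact e2
  choose N hyN hNW c hc using h
  obtain ⟨s, hs, -⟩ := TopCat.Sheaf.existsUnique_gluing' X.sheaf N W (fun y => homOfLE (hNW y))
    (fun x hx => Opens.mem_iSup.mpr ⟨⟨x, hx⟩, hyN _⟩) c (fun y y' => by
      refine TopCat.Presheaf.section_ext X.sheaf _ _ _ fun z hz => ?_
      refine (X.presheaf.germ_res_apply _ z hz _).trans (Eq.trans ?_ (X.presheaf.germ_res_apply _ z hz _).symm)
      have e := (hc y z hz.1).symm.trans (hc y' z hz.2)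
      rw [Groth.Agent.Mero.mk_eq_mk_iff, OneMemClass.coe_one, one_mul, one_mul] at e
      exact e)
  refine ⟨s, fun y hy => ?_⟩
  rw [hc ⟨y, hy⟩ y (hyN _)]
  congr 1
  rw [← hs ⟨y, hy⟩]
  exact X.presheaf.germ_res_apply _ _ _ _

/-- A meromorphic function on an affine open vanishing on `D(g)` is killed by a power of `g`. -/
theorem exists_pow_mul_eq_zero {U : X.Opens} (hU : IsAffineOpen U) (g : Γ(X, U)) (h : Γ(kmod X, U))
    (hh : ∀ (y : X) (hy : y ∈ X.basicOpen g), h.1 ⟨y, X.basicOpen_le g hy⟩ = 0) :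
    ∃ n : ℕ, toK X U g ^ n * h = 0 := by
  have loc : ∀ x : U, ∃ (V : X.Opens) (n : ℕ), x.1 ∈ V ∧ ∀ (y : X) (hyU : y ∈ U), y ∈ V → ∀ m, n ≤ m →
      (toK X U g ^ m * h).1 ⟨y, hyU⟩ = 0 := by
    intro x
    obtain ⟨V, hxV, hV, a, b, w⟩ := Groth.Agent.Mero.exists_fraction h x.1 x.2
    set g' := X.presheaf.map (homOfLE hV).op g
    have h0 : X.presheaf.map (homOfLE (X.basicOpen_le g')).op a = 0 := by
      refine TopCat.Presheaf.section_ext X.sheaf _ _ _ fun y hy => ?_
      refine Eq.trans ?_ (map_zero (X.presheaf.germ _ y hy).hom).symm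
      refine (X.presheaf.germ_res_apply _ y hy a).trans ?_
      have hy' : y ∈ X.basicOpen g := by
        rw [Scheme.basicOpen_res] at hy; exact hy.2
      have e := hh y hy'
      have hyV := X.basicOpen_le g' hy
      have e' := (w ⟨y, hyV⟩).symm.trans e
      exact (Groth.Agent.Mero.mk_eq_zero_iff _ _).mp e'
    obtain ⟨n, hn⟩ := exists_pow_mul_eq_zero_of_res_basicOpen_eq_zero_of_isCompact X
      (U := V.1) V.2.isCompact a g' h0
    refine ⟨V.1, n, hxV, fun y hyU hy m hm => ?_⟩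
    obtain ⟨k, rfl⟩ := Nat.exists_eq_add_of_le hm
    have e := congrArg (X.presheaf.germ V.1 y hy) hn
    rw [map_mul, map_pow, map_zero, TopCat.Presheaf.germ_res_apply] at e
    have ew : h.1 ⟨y, hyU⟩ = _ := w ⟨y, hy⟩
    rw [kmod_mul_apply, ← map_pow, toK_apply, ew]
    refine (LocalizedModule.mk_mul_mk).trans ((Groth.Agent.Mero.mk_eq_zero_iff _ _).mpr ?_)
    rw [map_pow, pow_add, mul_right_comm, e, zero_mul]
  choose V n hV hVn using loc
  obtain ⟨t, ht⟩ := hU.isCompact.elim_finite_subcover (fun x : U => (V x : Set X))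
    (fun x => (V x).2) (fun x hx => Set.mem_iUnion.mpr ⟨⟨x, hx⟩, hV ⟨x, hx⟩⟩)
  refine ⟨t.sup n, Subtype.ext (funext fun y => ?_)⟩
  obtain ⟨x, hxt, hyx⟩ := Set.mem_iUnion₂.mp (ht y.2)
  exact hVn x y.1 y.2 hyx _ (Finset.le_sup hxt)

/-- Denominators: every meromorphic function is a fraction with a nonzerodivisor denominator. -/
theorem exists_surj {U : X.Opens} (hU : IsAffineOpen U)
    (hfin : {z : X | z ∈ U ∧ Curv2.IsWeakAssPoint (Coh.structureModule X) z}.Finite)
    (f : Γ(kmod X, U)) : ∃ a b : Γ(X, U), b ∈ nonZeroDivisors Γ(X, U) ∧ f * toK X U b = toK X U a := by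
  classical
  let D : X.Opens := ⟨Groth.Agent.Mero.defDomain f, Groth.Agent.Mero.isOpen_defDomain f⟩
  have hPU : ∀ z : hfin.toFinset, z.1 ∈ U := fun z => (hfin.mem_toFinset.mp z.2).1
  have hPw : ∀ z : hfin.toFinset, Curv2.IsWeakAssPoint (Coh.structureModule X) z.1 :=
    fun z => (hfin.mem_toFinset.mp z.2).2
  have hg : ∀ z : hfin.toFinset, ∃ g : Γ(X, U), z.1 ∈ X.basicOpen g ∧ X.basicOpen g ≤ D := by
    intro z
    have hzU := hPU z
    obtain ⟨V, hzV, hV, a, b, w⟩ := Groth.Agent.Mero.exists_fraction f z.1 hzU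
    have hu : IsUnit (X.presheaf.germ V.1 z.1 hzV b.1) :=
      WeakAssSch.isUnit_of_isAssociatedPrime
        ((WeakAssSch.isWeakAssPoint_unit_iff_isAssociatedPrime z.1).mp (hPw z)) (b.2 ⟨z.1, hzV⟩)
    have hzD : z.1 ∈ D := ⟨hzU, Groth.Agent.Mero.mem_range_of_isUnit hV w ⟨z.1, hzV⟩ hu⟩
    obtain ⟨g, hgD, hzg⟩ := hU.exists_basicOpen_le ⟨z.1, hzD⟩ hzU
    exact ⟨g, hzg, hgD⟩
  choose g hzg hgD using hg
  let J : Ideal Γ(X, U) := Ideal.span (Set.range g)
  let P : hfin.toFinset → Ideal Γ(X, U) := fun z => (hU.primeIdealOf ⟨z.1, hPU z⟩).asIdeal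
  have hPunit : ∀ (z : hfin.toFinset) (a : Γ(X, U)),
      a ∉ P z ↔ IsUnit (X.presheaf.germ U z.1 (hPU z) a) := by
    intro z a
    letI := X.presheaf.algebra_section_stalk ⟨z.1, hPU z⟩
    haveI : IsLocalization.AtPrime (X.presheaf.stalk z.1) (P z) :=
      hU.isLocalization_stalk ⟨z.1, hPU z⟩
    exact (IsLocalization.AtPrime.isUnit_to_map_iff (X.presheaf.stalk z.1) (P z) a).symm
  obtain ⟨b, hbJ, hb⟩ : ∃ b ∈ J, ∀ z, b ∉ P z := by
    by_contra hcon
    push Not at hcon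
    by_cases hne : Nonempty hfin.toFinset
    · obtain ⟨z₀⟩ := hne
      obtain ⟨z, -, hle⟩ := (Ideal.subset_union_prime (s := Finset.univ) (f := P) z₀ z₀
        (fun i _ _ _ => (hU.primeIdealOf _).isPrime)).mp (fun b hb => by
          obtain ⟨z, hz⟩ := hcon b hb
          simp only [Finset.coe_univ, Set.mem_univ, Set.iUnion_true, Set.mem_iUnion]
          exact ⟨z, hz⟩)
      exact (hPunit z (g z)).mpr ((Scheme.mem_basicOpen _ _ _ (hPU z)).mp (hzg z))
        (hle (Ideal.subset_span ⟨z, rfl⟩))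
    · obtain ⟨z, -⟩ := hcon 0 J.zero_mem
      exact hne ⟨z⟩
  have hbnzd : b ∈ nonZeroDivisors Γ(X, U) := mem_nonZeroDivisors_of_isUnit fun z hz hw =>
    (hPunit ⟨z, hfin.mem_toFinset.mpr ⟨hz, hw⟩⟩ b).mp (hb _)
  have hbD : ∀ y ∈ X.basicOpen b, y ∈ Groth.Agent.Mero.defDomain f := by
    intro y hy
    have hyU := X.basicOpen_le b hy
    letI := X.presheaf.algebra_section_stalk ⟨y, hyU⟩
    haveI : IsLocalization.AtPrime (X.presheaf.stalk y) (hU.primeIdealOf ⟨y, hyU⟩).asIdeal :=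
      hU.isLocalization_stalk ⟨y, hyU⟩
    by_contra hyD
    have : J ≤ (hU.primeIdealOf ⟨y, hyU⟩).asIdeal := by
      refine Ideal.span_le.mpr ?_
      rintro _ ⟨z, rfl⟩
      by_contra hz
      refine hyD (hgD z ((Scheme.mem_basicOpen _ _ y hyU).mpr ?_))
      exact (IsLocalization.AtPrime.isUnit_to_map_iff (X.presheaf.stalk y) _ (g z)).mpr hz
    exact (IsLocalization.AtPrime.isUnit_to_map_iff (X.presheaf.stalk y)
      (hU.primeIdealOf ⟨y, hyU⟩).asIdeal b).mp ((Scheme.mem_basicOpen _ _ y hyU).mp hy) (this hbJ)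
  obtain ⟨c, hc⟩ := exists_section_of_defDomain f (X.basicOpen b) (X.basicOpen_le b) hbD
  letI := hU.isLocalization_basicOpen b
  letI : Algebra Γ(X, U) Γ(X, X.basicOpen b) := (X.presheaf.map (homOfLE (X.basicOpen_le b)).op).hom.toAlgebra
  obtain ⟨n, a, ha⟩ := IsLocalization.Away.surj b c
  obtain ⟨N, hN⟩ := exists_pow_mul_eq_zero hU b (toK X U b ^ n * f - toK X U a) (fun y hy => by
    change (toK X U b ^ n * f).1 ⟨y, _⟩ - (toK X U a).1 ⟨y, _⟩ = 0
    rw [sub_eq_zero, kmod_mul_apply, ← map_pow, toK_apply, toK_apply, hc y hy]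
    refine LocalizedModule.mk_mul_mk.trans (mk_congr ?_ (one_mul _))
    have e := congrArg (X.presheaf.germ (X.basicOpen b) y hy) ha
    simp only [RingHom.algebraMap_toAlgebra, map_mul, map_pow, TopCat.Presheaf.germ_res_apply] at e
    rw [map_pow, mul_comm]
    exact e)
  refine ⟨b ^ N * a, b ^ (N + n), pow_mem hbnzd _, ?_⟩
  rw [mul_sub, sub_eq_zero] at hN
  rw [map_mul, map_pow, map_pow, ← hN, pow_add]
  ring

/-- `K_X(U)` is the total ring of fractions of `O_X(U)`. -/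
theorem isLocalization {U : X.Opens} (hU : IsAffineOpen U)
    (hfin : {z : X | z ∈ U ∧ Curv2.IsWeakAssPoint (Coh.structureModule X) z}.Finite) :
    @IsLocalization Γ(X, U) _ (nonZeroDivisors Γ(X, U)) Γ(kmod X, U) _ (toK X U).toAlgebra := by
  letI := (toK X U).toAlgebra
  refine (isLocalization_iff (nonZeroDivisors Γ(X, U)) Γ(kmod X, U)).mpr
    ⟨fun y => isUnit_toK hU y.2, fun f => ?_, fun h => ⟨1, ?_⟩⟩
  · obtain ⟨a, b, hb, e⟩ := exists_surj hU hfin f
    exact ⟨⟨a, ⟨b, hb⟩⟩, e⟩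
  · rw [OneMemClass.coe_one, one_mul, one_mul]
    exact toK_injective h

/-- Finitely many weakly associated points on a Noetherian affine open. -/
theorem finite_of_isNoetherianRing {U : X.Opens} (hU : IsAffineOpen U) [IsNoetherianRing Γ(X, U)] :
    {z : X | z ∈ U ∧ Curv2.IsWeakAssPoint (Coh.structureModule X) z}.Finite := by
  haveI := WeakAssSch.isQuasicoherent_unit X
  have hA : (FlatCA.weakAss Γ(X, U) Γ(Coh.structureModule X, U)).Finite := by
    refine (associatedPrimes.finite Γ(X, U) Γ(X, U)).subset ?_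
    intro p hp
    haveI := WeakAss.isPrime_of_mem hp
    obtain ⟨hp', m, hm⟩ := WeakAss.mem_ass_of_fg (IsNoetherian.noetherian p) hp
    refine isAssociatedPrime_iff.mpr ⟨hp', (show Γ(X, U) from m), ?_⟩
    rw [hm]
    ext r
    rw [WeakAss.mem_ann, Submodule.mem_colon_singleton, Submodule.mem_bot]
    rfl
  let F : {z : X | z ∈ U ∧ Curv2.IsWeakAssPoint (Coh.structureModule X) z} →
      FlatCA.weakAss Γ(X, U) Γ(Coh.structureModule X, U) := fun z =>
    ⟨_, (WeakAssSch.isWeakAssPoint_iff_mem _ hU z.1 z.2.1).mp z.2.2⟩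
  haveI := hA.to_subtype
  have hF : Function.Injective F := fun z z' e => by
    have h1 : hU.primeIdealOf ⟨z.1, z.2.1⟩ = hU.primeIdealOf ⟨z'.1, z'.2.1⟩ :=
      PrimeSpectrum.ext (congrArg Subtype.val e)
    have h2 := congrArg hU.fromSpec h1
    rw [hU.fromSpec_primeIdealOf, hU.fromSpec_primeIdealOf] at h2
    exact Subtype.ext h2
  haveI := Finite.of_injective F hF
  exact Set.toFinite _

/-- Finitely many weakly associated points when they are all maximal and components are finite. -/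
theorem finite_of_maximal (ha : ∀ x : X, Curv2.IsWeakAssPoint (Coh.structureModule X) x →
      ∀ y : X, y ⤳ x → y = x) {U : X.Opens}
    (hb : (irreducibleComponents ↥(U : Scheme.{u})).Finite) :
    {z : X | z ∈ U ∧ Curv2.IsWeakAssPoint (Coh.structureModule X) z}.Finite := by
  have key : ∀ z : {z : X | z ∈ U ∧ Curv2.IsWeakAssPoint (Coh.structureModule X) z},
      closure {(⟨z.1, z.2.1⟩ : U)} ∈ irreducibleComponents ↥(U : Scheme.{u}) := by
    intro z
    refine ⟨isIrreducible_singleton.closure, fun T hT hle => ?_⟩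
    obtain ⟨w, hw⟩ := QuasiSober.sober hT.closure isClosed_closure
    have hzw : w ⤳ (⟨z.1, z.2.1⟩ : U) :=
      hw.specializes (subset_closure (hle (subset_closure (Set.mem_singleton _))))
    have he : w.1 = z.1 := ha z.1 z.2.2 w.1 ((subtype_specializes_iff _ _).mp hzw)
    have he' : w = (⟨z.1, z.2.1⟩ : U) := Subtype.ext he
    subst he'
    exact subset_closure.trans hw.def.ge
  haveI := hb.to_subtype
  haveI := Finite.of_injective (fun z => (⟨_, key z⟩ : irreducibleComponents ↥(U : Scheme.{u})))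
    (fun z z' e => by
      have e' : closure {(⟨z.1, z.2.1⟩ : U)} = closure {(⟨z'.1, z'.2.1⟩ : U)} := congrArg Subtype.val e
      have := (inseparable_iff_closure_eq.mpr e').eq
      exact Subtype.ext (congrArg Subtype.val this :))
  exact Set.toFinite _

/-- Regular germs are all nonzerodivisors when weakly associated points are maximal and finite. -/
theorem regStalk_eq
    (hfin : ∀ U : X.Opens, IsAffineOpen U →
      {z : X | z ∈ U ∧ Curv2.IsWeakAssPoint (Coh.structureModule X) z}.Finite) (x : X) :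
    regStalk X x = nonZeroDivisors (X.presheaf.stalk x) := by
  refine le_antisymm (regStalk_le_nonZeroDivisors x) fun g hg => ?_
  obtain ⟨W, hxW, a, rfl⟩ := X.presheaf.exists_germ_eq (x := x) g
  obtain ⟨V, hxV, hVW⟩ := IdealSh.Comap.exists_affine_le x W hxW
  set a' := X.presheaf.map (homOfLE hVW).op a
  have hgerm : X.presheaf.germ W x hxW a = X.presheaf.germ V.1 x hxV a' :=
    (X.presheaf.germ_res_apply _ _ _ _).symm
  rw [hgerm] at hg ⊢
  classical
  have hS := hfin V.1 V.2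
  let S := hS.toFinset.filter fun z => ¬ z ⤳ x
  have hopen : ∃ N : X.Opens, x ∈ N ∧ N ≤ V.1 ∧ ∀ z ∈ S, z ∉ N := by
    refine ⟨⟨(⋃ z ∈ (S : Set X), closure {z})ᶜ ∩ V.1, ?_⟩, ⟨?_, hxV⟩, fun y hy => hy.2, fun z hz hzN => ?_⟩
    · exact ((Set.Finite.isClosed_biUnion (S.finite_toSet) fun z _ => isClosed_closure).isOpen_compl).inter V.1.2
    · simp only [Set.mem_compl_iff, Set.mem_iUnion, not_exists]
      intro z hz hzx
      exact (Finset.mem_filter.mp hz).2 (specializes_iff_mem_closure.mpr hzx)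
    · exact hzN.1 (Set.mem_iUnion₂.mpr ⟨z, hz, subset_closure rfl⟩)
  obtain ⟨N, hxN, hNV, hN⟩ := hopen
  rw [← X.presheaf.germ_res_apply (homOfLE hNV) x hxN a']
  refine Groth.Agent.Mero.germ_mem_regStalk_of_isUnit _ (fun z hz hw => ?_) x hxN
  have hzV := hNV hz
  have hzx : z ⤳ x := by
    by_contra hzx
    exact hN z (Finset.mem_filter.mpr ⟨hS.mem_toFinset.mpr ⟨hzV, hw⟩, hzx⟩) hz
  rw [TopCat.Presheaf.germ_res_apply]
  letI := X.presheaf.algebra_section_stalk ⟨x, hxV⟩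
  haveI : IsLocalization.AtPrime (X.presheaf.stalk x) (V.2.primeIdealOf ⟨x, hxV⟩).asIdeal :=
    V.2.isLocalization_stalk ⟨x, hxV⟩
  refine WeakAssSch.isUnit_of_isAssociatedPrime
    ((WeakAssSch.isWeakAssPoint_unit_iff_isAssociatedPrime z).mp hw) ?_
  rw [← X.presheaf.germ_stalkSpecializes hxV hzx, ConcreteCategory.comp_apply]
  refine mem_nonZeroDivisors_iff_right.mpr fun t ht => ?_
  rw [← ConcreteCategory.comp_apply, X.presheaf.germ_stalkSpecializes] at ht
  letI := X.presheaf.algebra_section_stalk ⟨z, hzV⟩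
  haveI : IsLocalization.AtPrime (X.presheaf.stalk z) (V.2.primeIdealOf ⟨z, hzV⟩).asIdeal :=
    V.2.isLocalization_stalk ⟨z, hzV⟩
  obtain ⟨⟨c, s⟩, hs⟩ := IsLocalization.surj (V.2.primeIdealOf ⟨z, hzV⟩).asIdeal.primeCompl t
  have hs' : t * X.presheaf.germ V.1 z hzV (s : Γ(X, V.1)) = X.presheaf.germ V.1 z hzV c := hs
  have h0 : algebraMap Γ(X, V.1) (X.presheaf.stalk z) (c * a') = 0 := by
    change X.presheaf.germ V.1 z hzV (c * a') = 0
    rw [map_mul, ← hs', mul_right_comm, ht, zero_mul]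
  obtain ⟨r, hr⟩ := (IsLocalization.map_eq_zero_iff
    (V.2.primeIdealOf ⟨z, hzV⟩).asIdeal.primeCompl (X.presheaf.stalk z) _).mp h0
  have h1 : X.presheaf.germ V.1 x hxV ((r : Γ(X, V.1)) * c) = 0 := by
    refine (mem_nonZeroDivisors_iff_right.mp hg) _ ?_
    rw [← map_mul, mul_assoc, hr, map_zero]
  have h2 := congrArg (X.presheaf.stalkSpecializes hzx) h1
  rw [map_zero, ← ConcreteCategory.comp_apply, X.presheaf.germ_stalkSpecializes, map_mul, ← hs'] at h2
  have hru : IsUnit (X.presheaf.germ V.1 z hzV (r : Γ(X, V.1))) :=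
    IsLocalization.map_units (X.presheaf.stalk z) r
  have hsu : IsUnit (X.presheaf.germ V.1 z hzV (s : Γ(X, V.1))) :=
    IsLocalization.map_units (X.presheaf.stalk z) s
  exact hsu.mul_left_eq_zero.mp (hru.mul_right_eq_zero.mp h2)

end Groth.Agent.MeroTotal
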