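import Groth.Agent.MeroTotal.Basic
import Groth.Agent.Props.GenLocus

/-!
# Regular meromorphic sections of invertible modules
-/

set_option linter.style.haveILetI false

universe u

open CategoryTheory AlgebraicGeometry TopologicalSpace

namespace Groth.Agent.MeroTotal.RegularSection

open _root_.Mero Groth.Agent.PullStalk.Sky

variable {X : Scheme.{u}}

theorem isWeakAssPoint_unit_of_maximal (x : X) (hx : ∀ y : X, y ⤳ x → y = x) :
    Curv2.IsWeakAssPoint (Coh.structureModule X) x := by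
  refine (WeakAssSch.isWeakAssPoint_unit_iff x).mpr
    (WeakAss.mem_weakAss_iff.mpr ⟨1, fun a ha => ?_, fun f hf => ?_⟩)
  · rw [smul_eq_mul, mul_one] at ha
    rw [ha]
    exact zero_mem _
  · obtain ⟨n, hn⟩ := IdealSh.Regular.isNilpotent_of_maximal x hx f hf
    exact ⟨1, Ideal.one_notMem _, n, by rw [hn, mul_zero, zero_smul]⟩

theorem maximal_of_noEmbedded
    (hne : ∀ x : ↥X, Curv2.IsAssPoint (Coh.structureModule X) x →
      ∀ y : ↥X, Curv2.IsAssPoint (Coh.structureModule X) y → y ⤳ x → y = x)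
    (x : X) (hx : Curv2.IsWeakAssPoint (Coh.structureModule X) x) (y : X) (hy : y ⤳ x) : y = x := by
  obtain ⟨ξ, hξy, hξ⟩ := IdealSh.GenericPts.exists_maximal_generalization y
  have e : ξ = x := hne x ((WeakAssSch.isAssPoint_iff_isWeakAssPoint _ x).mpr hx) ξ
    ((WeakAssSch.isAssPoint_iff_isWeakAssPoint _ ξ).mpr (isWeakAssPoint_unit_of_maximal ξ hξ)) (hξy.trans hy)
  subst e
  exact (hy.antisymm hξy).eq

theorem germ_eq_zero {W : X.Opens} (c : Γ(X, W))
    (h : ∀ (z : X) (hz : z ∈ W), Curv2.IsWeakAssPoint (Coh.structureModule X) z →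
      X.presheaf.germ W z hz c = 0) (y : X) (hy : y ∈ W) : X.presheaf.germ W y hy c = 0 := by
  obtain ⟨V, hyV, hle⟩ := IdealSh.Comap.exists_affine_le y W hy
  rw [← X.presheaf.germ_res_apply (homOfLE hle) y hyV c]
  by_cases h0 : X.presheaf.map (homOfLE hle).op c = 0
  · rw [h0, map_zero]
  · exfalso
    obtain ⟨z, hzV, hne, hw⟩ := IdealSh.GenericPts.exists_isWeakAssPoint V.2 h0
    rw [TopCat.Presheaf.germ_res_apply] at hne
    exact hne (h z (hle hzV) hw)

variable {L : X.Modules}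

theorem bijective_smul_germ {U : X.Opens} {e : Γ(L, U)} (he : Props.GenLocus.IsGen L U e)
    (y : X) (hy : y ∈ U) :
    Function.Bijective fun r : X.presheaf.stalk y => r • germM L U y hy e := by
  have h := ((Props.GenLocus.isGen_iff_isFrame e).mp he).stalkComb_bijective y hy
  have e1 : (fun r : X.presheaf.stalk y => r • germM L U y hy e) =
      LFFrame.stalkComb L (fun _ : Fin 1 => e) y hy ∘ (Equiv.funUnique (Fin 1) _).symm := by
    funext r
    simp [LFFrame.stalkComb, Fintype.linearCombination_apply]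
  rw [e1]
  exact h.comp (Equiv.bijective _)

theorem isUnit_of_generates {U U' : X.Opens} {e : Γ(L, U)} {e' : Γ(L, U')}
    (he : Props.GenLocus.IsGen L U e) (he' : Props.GenLocus.IsGen L U' e') (y : X) (hy : y ∈ U)
    (hy' : y ∈ U') : ∃ r : X.presheaf.stalk y, IsUnit r ∧ r • germM L U y hy e = germM L U' y hy' e' := by
  obtain ⟨r, hr⟩ := (bijective_smul_germ he y hy).2 (germM L U' y hy' e')
  obtain ⟨r', hr'⟩ := (bijective_smul_germ he' y hy').2 (germM L U y hy e)
  refine ⟨r, IsUnit.of_mul_eq_one r' ((bijective_smul_germ he' y hy').1 ?_), hr⟩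
  change (r * r') • germM L U' y hy' e' = (1 : X.presheaf.stalk y) • germM L U' y hy' e'
  simp only at hr hr'
  rw [one_smul, mul_smul, hr', hr]

/-- Prescribing values at the finitely many (maximal) weakly associated points of an affine open. -/
theorem exists_fraction_values (ha : ∀ x : X, Curv2.IsWeakAssPoint (Coh.structureModule X) x →
      ∀ y : X, y ⤳ x → y = x) {V : X.Opens} (hV : IsAffineOpen V)
    (hfin : {z : X | z ∈ V ∧ Curv2.IsWeakAssPoint (Coh.structureModule X) z}.Finite)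
    (r : ∀ z : X, X.presheaf.stalk z)
    (hr : ∀ z ∈ V, Curv2.IsWeakAssPoint (Coh.structureModule X) z → IsUnit (r z)) :
    ∃ a S : Γ(X, V), ∀ (z : X) (hz : z ∈ V), Curv2.IsWeakAssPoint (Coh.structureModule X) z →
      IsUnit (X.presheaf.germ V z hz a) ∧ IsUnit (X.presheaf.germ V z hz S) ∧
        X.presheaf.germ V z hz S * r z = X.presheaf.germ V z hz a := by
  classical
  set P := hfin.toFinset
  have hP : ∀ z ∈ P, z ∈ V ∧ Curv2.IsWeakAssPoint (Coh.structureModule X) z :=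
    fun z hz => hfin.mem_toFinset.mp hz
  let p : ∀ z : X, z ∈ V → Ideal Γ(X, V) := fun z hz => (hV.primeIdealOf ⟨z, hz⟩).asIdeal
  have hunit : ∀ (z : X) (hz : z ∈ V) (a : Γ(X, V)),
      a ∉ p z hz ↔ IsUnit (X.presheaf.germ V z hz a) := by
    intro z hz a
    letI := X.presheaf.algebra_section_stalk ⟨z, hz⟩
    haveI : IsLocalization.AtPrime (X.presheaf.stalk z) (p z hz) := hV.isLocalization_stalk ⟨z, hz⟩
    exact (IsLocalization.AtPrime.isUnit_to_map_iff (X.presheaf.stalk z) (p z hz) a).symm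
  have hsep : ∀ z z' : P, z' ≠ z → ∃ t, t ∈ p z'.1 (hP _ z'.2).1 ∧ t ∉ p z.1 (hP _ z.2).1 := by
    intro z z' hne
    refine SetLike.not_le_iff_exists.mp fun hle => hne (Subtype.ext ?_)
    have h1 : hV.primeIdealOf ⟨z'.1, (hP _ z'.2).1⟩ ⤳ hV.primeIdealOf ⟨z.1, (hP _ z.2).1⟩ :=
      (PrimeSpectrum.le_iff_specializes _ _).mp hle
    have h2 := h1.map hV.fromSpec.continuous
    rw [hV.fromSpec_primeIdealOf, hV.fromSpec_primeIdealOf] at h2
    exact ha z.1 (hP _ z.2).2 z'.1 h2
  choose t ht ht' using hsep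
  let h : P → Γ(X, V) := fun z => ∏ z' : {z' : P // z' ≠ z}, t z z'.1 z'.2
  have hh : ∀ z : P, IsUnit (X.presheaf.germ V z.1 (hP _ z.2).1 (h z)) := fun z => by
    rw [map_prod, IsUnit.prod_univ_iff]
    exact fun z' => (hunit _ _ _).mp (ht' z z'.1 z'.2)
  have hnil : ∀ z z' : P, z' ≠ z → IsNilpotent (X.presheaf.germ V z'.1 (hP _ z'.2).1 (h z)) := by
    intro z z' hne
    refine IdealSh.Regular.isNilpotent_of_maximal z'.1 (ha _ (hP _ z'.2).2) _
      ((IsLocalRing.mem_maximalIdeal _).mpr fun hu => ?_)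
    rw [map_prod, IsUnit.prod_univ_iff] at hu
    exact (hunit _ _ _).mpr (hu ⟨z', hne⟩) (ht z z' hne)
  choose! N hN using hnil
  let H : P → Γ(X, V) := fun z => h z ^ (Finset.univ.sup (N z) + 1)
  have hH0 : ∀ z z' : P, z' ≠ z → X.presheaf.germ V z'.1 (hP _ z'.2).1 (H z) = 0 := fun z z' hne => by
    rw [map_pow]
    exact pow_eq_zero_of_le ((Finset.le_sup (Finset.mem_univ z')).trans (Nat.le_succ _)) (hN z z' hne)
  have hfr : ∀ z : P, ∃ a S : Γ(X, V), IsUnit (X.presheaf.germ V z.1 (hP _ z.2).1 S) ∧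
      X.presheaf.germ V z.1 (hP _ z.2).1 S * r z.1 = X.presheaf.germ V z.1 (hP _ z.2).1 a := by
    intro z
    letI := X.presheaf.algebra_section_stalk ⟨z.1, (hP _ z.2).1⟩
    haveI : IsLocalization.AtPrime (X.presheaf.stalk z.1) (p z.1 (hP _ z.2).1) :=
      hV.isLocalization_stalk ⟨z.1, (hP _ z.2).1⟩
    obtain ⟨⟨a, S⟩, hS⟩ := IsLocalization.surj (p z.1 (hP _ z.2).1).primeCompl (r z.1)
    exact ⟨a, S, (hunit _ _ _).mp S.2, (mul_comm _ _).trans hS⟩
  choose a₀ S₀ hS₀ hval using hfr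
  refine ⟨∑ z, H z * a₀ z, ∑ z, H z * S₀ z, fun z hz hw => ?_⟩
  let zP : P := ⟨z, hfin.mem_toFinset.mpr ⟨hz, hw⟩⟩
  have hsum : ∀ c : P → Γ(X, V),
      X.presheaf.germ V z hz (∑ w, H w * c w) = X.presheaf.germ V z hz (H zP * c zP) := fun c => by
    rw [map_sum]
    refine Finset.sum_eq_single zP (fun w _ hw' => ?_) (fun h => absurd (Finset.mem_univ _) h)
    rw [map_mul, show X.presheaf.germ V z hz (H w) = 0 from hH0 w zP (Ne.symm hw'), zero_mul]
  have hHu : IsUnit (X.presheaf.germ V z hz (H zP)) := by rw [map_pow]; exact (hh zP).pow _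
  rw [hsum, hsum, map_mul, map_mul]
  refine ⟨hHu.mul ?_, hHu.mul (hS₀ zP), ?_⟩
  · rw [← hval zP]
    exact (hS₀ zP).mul (hr z hz hw)
  · rw [mul_assoc, hval zP]

/-- Existence of regular meromorphic sections. -/
theorem hasRegularMero (ha : ∀ x : X, Curv2.IsWeakAssPoint (Coh.structureModule X) x →
      ∀ y : X, y ⤳ x → y = x)
    (hfin : ∀ U : X.Opens, IsAffineOpen U →
      {z : X | z ∈ U ∧ Curv2.IsWeakAssPoint (Coh.structureModule X) z}.Finite)
    (hL : PicF.IsInvertible L) : HasRegularMero L := by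
  classical
  choose W g hW hg using fun z : X => Props.GenLocus.exists_isGen hL z
  have hloc : ∀ x : X, ∃ (V : X.affineOpens) (_ : x ∈ V.1) (e : Γ(L, V.1)),
      Props.GenLocus.IsGen L V.1 e ∧ ∃ a S : Γ(X, V.1),
      ∀ (z : X) (hz : z ∈ V.1), Curv2.IsWeakAssPoint (Coh.structureModule X) z →
        IsUnit (X.presheaf.germ V.1 z hz a) ∧ IsUnit (X.presheaf.germ V.1 z hz S) ∧
          X.presheaf.germ V.1 z hz S • germM L (W z) z (hW z) (g z) =
            X.presheaf.germ V.1 z hz a • germM L V.1 z hz e := by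
    intro x
    obtain ⟨V, hxV, hle⟩ := IdealSh.Comap.exists_affine_le x (W x) (hW x)
    have he := (hg x).restrict hle
    choose! r hru hr using fun z (hz : z ∈ V.1) => isUnit_of_generates he (hg z) z hz (hW z)
    obtain ⟨a, S, h⟩ := exists_fraction_values ha V.2 (hfin V.1 V.2) r fun z hz _ => hru z hz
    refine ⟨V, hxV, _, he, a, S, fun z hz hw => ⟨(h z hz hw).1, (h z hz hw).2.1, ?_⟩⟩
    rw [← hr z hz, smul_smul, (h z hz hw).2.2]
  choose V hxV e he a S hval using hloc
  have hS : ∀ x, S x ∈ regSub X (V x).1 := fun x y =>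
    WeakAssSch.germ_mem_nonZeroDivisors_of_isUnit (S x) (fun z hz hw => (hval x z hz hw).2.1) y.1 y.2
  let v : ∀ (x y : X), y ∈ (V x).1 → MStalk L y := fun x y hy =>
    LocalizedModule.mk (X.presheaf.germ (V x).1 y hy (a x) • germM L (V x).1 y hy (e x))
      (regGerm ⟨y, hy⟩ ⟨S x, hS x⟩)
  have hagree : ∀ (x x' y : X) (hy : y ∈ (V x).1) (hy' : y ∈ (V x').1), v x y hy = v x' y hy' := by
    intro x x' y hy hy'
    obtain ⟨c, hc, -⟩ := (he x).exists_eq (inf_le_left : ((V x).1 ⊓ (V x').1) ≤ (V x).1)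
      (QCoh.res L (inf_le_right : ((V x).1 ⊓ (V x').1) ≤ (V x').1) (e x'))
    set aW := X.presheaf.map (homOfLE (inf_le_left : ((V x).1 ⊓ (V x').1) ≤ (V x).1)).op (a x)
    set aV := X.presheaf.map (homOfLE (inf_le_right : ((V x).1 ⊓ (V x').1) ≤ (V x').1)).op (a x')
    set SW := X.presheaf.map (homOfLE (inf_le_left : ((V x).1 ⊓ (V x').1) ≤ (V x).1)).op (S x)
    set SV := X.presheaf.map (homOfLE (inf_le_right : ((V x).1 ⊓ (V x').1) ≤ (V x').1)).op (S x')
    have hcg : ∀ (z : X) (hz : z ∈ ((V x).1 ⊓ (V x').1)), germM L (V x').1 z hz.2 (e x') =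
        X.presheaf.germ ((V x).1 ⊓ (V x').1) z hz c • germM L (V x).1 z hz.1 (e x) := by
      intro z hz
      have h1 := congrArg (germM L ((V x).1 ⊓ (V x').1) z hz) hc
      rw [germM_smul] at h1
      exact (L.presheaf.germ_res_apply _ z hz _).symm.trans (h1.trans
        (congrArg _ (L.presheaf.germ_res_apply _ z hz _)))
    have h0 : ∀ (z : X) (hz : z ∈ ((V x).1 ⊓ (V x').1)), Curv2.IsWeakAssPoint (Coh.structureModule X) z →
        X.presheaf.germ ((V x).1 ⊓ (V x').1) z hz (SV * aW - SW * (aV * c)) = 0 := by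
      intro z hz hw
      obtain ⟨-, -, e1⟩ := hval x z hz.1 hw
      obtain ⟨-, -, e2⟩ := hval x' z hz.2 hw
      rw [hcg z hz] at e2
      rw [map_sub, sub_eq_zero]
      refine (bijective_smul_germ (he x) z hz.1).1 ?_
      simp only [map_mul, SW, SV, aW, aV, TopCat.Presheaf.germ_res_apply]
      rw [mul_smul, ← e1, mul_smul, mul_smul, ← e2, smul_comm]
    have h1 := germ_eq_zero _ h0 y ⟨hy, hy'⟩
    simp only [map_sub, map_mul, sub_eq_zero, SW, SV, aW, aV] at h1
    have hy2 : y ∈ (V x).1 ⊓ (V x').1 := ⟨hy, hy'⟩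
    have r1 : ∀ t : Γ(X, (V x).1), X.presheaf.germ _ y hy2
        (X.presheaf.map (homOfLE (inf_le_left : (V x).1 ⊓ (V x').1 ≤ (V x).1)).op t) =
        X.presheaf.germ (V x).1 y hy t := fun t => X.presheaf.germ_res_apply _ y hy2 t
    have r2 : ∀ t : Γ(X, (V x').1), X.presheaf.germ _ y hy2
        (X.presheaf.map (homOfLE (inf_le_right : (V x).1 ⊓ (V x').1 ≤ (V x').1)).op t) =
        X.presheaf.germ (V x').1 y hy' t := fun t => X.presheaf.germ_res_apply _ y hy2 t
    erw [r1, r1, r2, r2] at h1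
    refine LocalizedModule.mk_eq.mpr ⟨1, ?_⟩
    simp only [one_smul, Submonoid.smul_def, regGerm, hcg y ⟨hy, hy'⟩, smul_smul]
    congr 1
  refine ⟨⟨fun y => v y.1 y.1 (hxV y.1), fun x => ⟨(V x.1).1, hxV x.1, homOfLE le_top,
    a x.1 • e x.1, ⟨S x.1, hS x.1⟩, fun y => ?_⟩⟩, fun y q hq => ?_⟩
  · change v y.1 y.1 (hxV y.1) = _
    rw [hagree y.1 x.1 y.1 (hxV y.1) y.2]
    exact mk_congr (germM_smul L _ y.1 y.2 _ _).symm rfl
  · induction q using Localization.induction_on with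
    | H p =>
      obtain ⟨r, t⟩ := p
      change (Localization.mk r t : KStalk X y) • v y y (hxV y) = 0 at hq
      rw [LocalizedModule.mk_smul_mk] at hq
      obtain ⟨c, hc⟩ := LocalizedModule.mk_eq.mp (hq.trans (LocalizedModule.zero_mk 1).symm)
      simp only [one_smul, smul_zero, Submonoid.smul_def, smul_smul] at hc
      refine (Groth.Agent.Mero.mk_eq_zero_iff r t).mpr ?_
      have h1 := (bijective_smul_germ (he y) y (hxV y)).1
        (hc.trans (zero_smul (X.presheaf.stalk y) _).symm)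
      have hau := WeakAssSch.germ_mem_nonZeroDivisors_of_isUnit (a y)
        (fun z hz hw => (hval y z hz hw).1) y (hxV y)
      exact (mem_nonZeroDivisors_iff_right.mp hau) r
        (mem_nonZeroDivisors_iff_left.mp (regStalk_le_nonZeroDivisors y c.2) _
          h1)

end Groth.Agent.MeroTotal.RegularSection
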